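import Cfsg.Agent.Lib.HeLocal.Pattern.Classes
import Cfsg.Agent.Lib.HeLocal.LinearCase
import Cfsg.Agent.S0215

/-!
# The degenerate patterns do not occur in a simple group

If only one side is conjugate to the centre, the conjugates of `z` commuting with `z` are the fifteen
involutions of `A`, products of two conjugates either commute or have odd order, and an involution of `Q`
outside `A` fixes no second conjugate of `A`: so all conjugates of `z` lie in `A`, which is then normal.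
-/

set_option autoImplicit false

namespace Cfsg.Agent.HeLocal

open Subgroup Code

namespace Pair

variable {G : Type*} [Group G] [Finite G]

theorem inv_conj {t d : G} (ht : t * t = 1) (hd : t * d * t = d⁻¹) (n : ℕ) :
    (d ^ n)⁻¹ * t * d ^ n = t * d ^ (2 * n) := by
  have hti : t⁻¹ = t := inv_eq_of_mul_eq_one_right ht
  have h : t * d ^ n * t = (d ^ n)⁻¹ := by
    calc t * d ^ n * t = t * d ^ n * t⁻¹ := by rw [hti]
      _ = (t * d * t⁻¹) ^ n := conj_pow.symm
      _ = _ := by rw [hti, hd, inv_pow]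
  rw [← h, two_mul, pow_add]
  simp only [mul_assoc]
  rw [← mul_assoc t t, ht, one_mul]

theorem inv_left {x y : G} (hx : x * x = 1) (hy : y * y = 1) : x * (x * y) * x = (x * y)⁻¹ := by
  rw [mul_inv_rev, inv_eq_of_mul_eq_one_right hx, inv_eq_of_mul_eq_one_right hy, ← mul_assoc x x, hx, one_mul]

theorem inv_right {x y : G} (hx : x * x = 1) (hy : y * y = 1) : y * (x * y) * y = (x * y)⁻¹ := by
  rw [mul_inv_rev, inv_eq_of_mul_eq_one_right hx, inv_eq_of_mul_eq_one_right hy, mul_assoc, mul_assoc, hy,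
    mul_one]

/-- An even product gives a central involution of the dihedral group. -/
theorem even {x y : G} (hx : x * x = 1) (hy : y * y = 1) {k : ℕ} (hk : orderOf (x * y) = 2 * k) :
    ∃ w : G, w * w = 1 ∧ w ≠ 1 ∧ w * x = x * w ∧ w * y = y * w ∧ (IsConj y (x * w) ∨ IsConj x (x * w) ∧ IsConj y (y * w)) := by
  set d := x * y with hd
  have hpos : 0 < orderOf d := orderOf_pos d
  set w := d ^ k with hw
  have hww : w * w = 1 := by rw [hw, ← pow_add, ← two_mul, ← hk, pow_orderOf_eq_one]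
  have hwi : w⁻¹ = w := inv_eq_of_mul_eq_one_right hww
  have key : ∀ t : G, t * t = 1 → t * d * t = d⁻¹ → w * t = t * w := by
    intro t ht htd
    have e := inv_conj ht htd k
    rw [two_mul, pow_add, ← hw, hww, mul_one, hwi] at e
    calc w * t = w * t * w * w⁻¹ := by group
      _ = _ := by rw [e, hwi]
  have hwx := key x hx (inv_left hx hy)
  have hwy := key y hy (inv_right hx hy)
  refine ⟨w, hww, fun e => ?_, hwx, hwy, ?_⟩
  · exact pow_ne_one_of_lt_orderOf (by omega) (by omega) (hw ▸ e : d ^ k = 1)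
  obtain ⟨j, rfl | rfl⟩ := Nat.even_or_odd' k
  · exact Or.inr ⟨isConj_iff.2 ⟨(d ^ j)⁻¹, by rw [inv_inv, inv_conj hx (inv_left hx hy) j]⟩,
      isConj_iff.2 ⟨(d ^ j)⁻¹, by rw [inv_inv, inv_conj hy (inv_right hx hy) j]⟩⟩
  · refine Or.inl (isConj_iff.2 ⟨(d ^ j)⁻¹, ?_⟩)
    rw [inv_inv, inv_conj hy (inv_right hx hy) j, hw, pow_succ', hd]
    simp only [← mul_assoc]
    rw [hx, one_mul]

/-- An odd product gives a conjugating element of the dihedral group. -/
theorem odd {x y : G} (hx : x * x = 1) (hy : y * y = 1) (h : Odd (orderOf (x * y))) :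
    ∃ g : G, g * x * g⁻¹ = y ∧ ∀ u : G, u * x = x * u → u * y = y * u → g * u = u * g := by
  obtain ⟨j, hj⟩ := h
  set d := x * y with hd
  have e : d ^ (2 * j) = d⁻¹ := by
    refine eq_inv_of_mul_eq_one_left ?_
    rw [← pow_succ, ← hj, pow_orderOf_eq_one]
  refine ⟨x * (d ^ j)⁻¹, ?_, fun u hux huy => ?_⟩
  · rw [show x * (d ^ j)⁻¹ * x * (x * (d ^ j)⁻¹)⁻¹ = x * ((d ^ j)⁻¹ * x * d ^ j) * x⁻¹ by group,
      inv_conj hx (inv_left hx hy) j, e, hd]
    group
    simp [pow_two, zpow_two, hx]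
    exact inv_eq_of_mul_eq_one_right hy
  · have h1 : Commute u x := hux
    have h2 : Commute u d := h1.mul_right huy
    exact (h1.mul_right (h2.pow_right j).inv_right).eq.symm

end Pair

theorem side_facts : ∀ a ∈ invCodes, Nat.beq (tagc a) 2 = true ∨ Nat.beq (tagc a) 3 = true →
    (listA.all fun b => memL (mulF (mulF b a) (mulF b a)) [InvChar.Coset.HeCent.idP, repc 0]) = true ∧
    (listA.any fun b => Nat.beq (mulF (mulF b a) (mulF b a)) (repc 0)) = true ∧
    (listA.any fun b => cm b a && Nat.beq (tagc b) 1 && isInv b) = true := by decide +kernel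

theorem side_products : (listA.all fun b => !cm b (repc 2) || Nat.beq b InvChar.Coset.HeCent.idP ||
    (isInv (mulF (repc 2) b) && (Nat.beq (tagc (mulF (repc 2) b)) 2 || Nat.beq (tagc (mulF (repc 2) b)) 3))) =
      true := by decide +kernel

/-- An involution of the classes `U'` and `W`: its commutators with `A`. -/
theorem side_spec {w : Mdl} (hw : IsInv w) (ht : tag w = 2 ∨ tag w = 3) :
    (∀ b : Mdl, inA b → b * w * (b * w) = 1 ∨ b * w * (b * w) = zc) ∧
    (∃ b : Mdl, inA b ∧ b * w * (b * w) = zc) ∧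
    ∃ a : Mdl, inA a ∧ IsInv a ∧ tag a = 1 ∧ a * w = w * a := by
  obtain ⟨h1, h2, h3⟩ := side_facts _ (code_mem_invCodes hw) (by
    rcases ht with e | e
    · exact Or.inl (by rw [← tag, e]; exact Nat.beq_refl _)
    · exact Or.inr (by rw [← tag, e]; exact Nat.beq_refl _))
  refine ⟨fun b hb => ?_, ?_, ?_⟩
  · have h := List.all_eq_true.1 h1 _ hb
    rw [← code_mul, ← code_mul, memL_iff] at h
    simp only [List.mem_cons, List.not_mem_nil, or_false] at h
    rcases h with e | e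
    · exact Or.inl (code_inj (e.trans code_one.symm))
    · exact Or.inr (code_inj (e.trans (code_rep (show 0 < 8 by norm_num)).symm))
  · obtain ⟨b, hb, hb'⟩ := List.any_eq_true.1 h2
    have hbc := code_el (listA_spec hb).1
    refine ⟨el b, by rw [inA, hbc]; exact hb, code_inj ?_⟩
    rw [code_mul, code_mul, hbc, Nat.eq_of_beq_eq_true hb', zc, code_rep (by norm_num)]
  · obtain ⟨b, hb, hb'⟩ := List.any_eq_true.1 h3
    simp only [Bool.and_eq_true] at hb'
    have hbc := code_el (listA_spec hb).1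
    exact ⟨el b, by rw [inA, hbc]; exact hb, isInv_iff.2 (by rw [hbc]; exact hb'.2),
      by rw [tag, hbc]; exact Nat.eq_of_beq_eq_true hb'.1.2, cm_code.1 (by rw [hbc]; exact hb'.1.1)⟩

namespace Iso

variable {G : Type*} [Group G] [Finite G] {z : G} (I : Iso z)

include I in
theorem zz : z * z = 1 := I.ι_zc ▸ I.ι_sq zc_inv

include I in
theorem sq_of_conj {x : G} (h : IsConj z x) : x * x = 1 := by
  obtain ⟨c, rfl⟩ := isConj_iff.1 h
  rw [show c * z * c⁻¹ * (c * z * c⁻¹) = c * (z * z) * c⁻¹ by group, I.zz]; group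

section Side

variable (h1 : I.ZType (rep 1)) (hle : ∀ g : Mdl, I.ZType g → tag g ≤ 1)
include h1 hle

/-- A conjugate of the centre commuting with an involution of `A` lies in `A`. -/
theorem mem_of_comm {d y : G} (hd : d ∈ I.AG) (hd1 : d ≠ 1) (hy : IsConj z y) (hc : d * y = y * d) :
    y ∈ I.AG := by
  obtain ⟨a, ha, rfl⟩ := I.mem_AG.1 hd
  have h6 : ¬ I.ZType (rep 6) := fun h => by
    have := hle _ h
    rw [tag_rep (by norm_num)] at this
    norm_num at this
  obtain ⟨t, ht, htz⟩ := I.exists_to_side h1 h6 ha fun e => hd1 (by rw [e, map_one])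
  obtain ⟨g, hg⟩ := I.exists_ι (x := t⁻¹ * y * t) (by
    calc t⁻¹ * y * t * z = t⁻¹ * (y * (t * z * t⁻¹)) * t := by group
      _ = t⁻¹ * ((t * z * t⁻¹) * y) * t := by rw [htz, hc]
      _ = _ := by group)
  have hgz : I.ZType g := hy.trans (isConj_iff.2 ⟨t⁻¹, by rw [hg]; group⟩)
  have hgA : inA g := inA_iff.2 (Or.inr ⟨I.isInv_of_zType hgz, hle g hgz⟩)
  have := I.conj_mem_AG ht (I.ι_mem_AG.2 hgA)
  rwa [hg, show t * (t⁻¹ * y * t) * t⁻¹ = y by group] at this

/-- A conjugate of the centre outside `A` has odd product with every involution of `A`. -/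
theorem odd_prod {d y : G} (hd : d ∈ I.AG) (hd1 : d ≠ 1) (hdz : IsConj z d) (hy : IsConj z y) (hyA : y ∉ I.AG) :
    Odd (orderOf (d * y)) := by
  by_contra hne
  rw [Nat.not_odd_iff_even, even_iff_exists_two_mul] at hne
  obtain ⟨k, hk⟩ := hne
  have hdd := I.AG_sq hd
  have hyy := I.sq_of_conj hy
  obtain ⟨w, hww, hw1, hwd, hwy, hcase⟩ := Pair.even hdd hyy hk
  have h' : IsConj z (d * w) := by
    rcases hcase with h | ⟨h, -⟩
    exacts [hy.trans h, hdz.trans h]
  have hmem : d * w ∈ I.AG := I.mem_of_comm h1 hle hd hd1 h' (by rw [mul_assoc, hwd])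
  have hwA : w ∈ I.AG := by
    have := mul_mem hd hmem
    rwa [← mul_assoc, hdd, one_mul] at this
  exact hyA (I.mem_of_comm h1 hle hwA hw1 hy hwy)

/-- An involution of `U'` or `W` commutes with no conjugate of the centre outside `A`. -/
theorem mem_of_comm_side {w : Mdl} (hw : IsInv w) (ht : tag w = 2 ∨ tag w = 3) {x : G} (hx : IsConj z x)
    (hc : I.ι w * x = x * I.ι w) : x ∈ I.AG := by
  by_contra hxA
  obtain ⟨hcomm, ⟨b, hb, hbz⟩, a, ha, hai, hat, haw⟩ := side_spec hw ht
  have hxx := I.sq_of_conj hx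
  have hzne : z ≠ 1 := I.ι_zc ▸ I.ι_ne zc_inv
  have haz : I.ZType a := I.zType_side_inA h1 ha hai.2
  obtain ⟨g1, hg1, hg1'⟩ := Pair.odd I.zz hxx
    (I.odd_prod h1 hle I.z_mem_AG hzne (IsConj.refl z) hx hxA)
  obtain ⟨g2, hg2, hg2'⟩ := Pair.odd (I.ι_sq hai) hxx
    (I.odd_prod h1 hle (I.ι_mem_AG.2 ha) (I.ι_ne hai) haz hx hxA)
  have c1 := hg1' (I.ι w) (I.ι_comm w) hc
  have c2 := hg2' (I.ι w) (I.ι_comm_iff.2 haw.symm) hc
  set h := g2⁻¹ * g1 with hh
  have hhw : Commute h (I.ι w) := (show Commute g2 (I.ι w) from c2).inv_left.mul_left c1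
  have hhz : h * z * h⁻¹ = I.ι a := by
    calc h * z * h⁻¹ = g2⁻¹ * (g1 * z * g1⁻¹) * g2 := by rw [hh]; group
      _ = g2⁻¹ * (g2 * I.ι a * g2⁻¹) * g2 := by rw [hg1, hg2]
      _ = _ := by group
  -- `h` normalises `A`
  have hN : ∀ c : Mdl, inA c → h * I.ι c * h⁻¹ ∈ I.AG := by
    intro c hc'
    rcases eq_or_ne c 1 with rfl | hc1
    · rw [map_one, mul_one, mul_inv_cancel]; exact one_mem _
    refine I.mem_of_comm h1 hle (I.ι_mem_AG.2 ha) (I.ι_ne hai)
      ((I.zType_side_inA h1 hc' hc1).trans (isConj_iff.2 ⟨h, rfl⟩)) ?_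
    rw [← hhz]
    calc h * z * h⁻¹ * (h * I.ι c * h⁻¹) = h * (z * I.ι c) * h⁻¹ := by group
      _ = _ := by rw [← I.ι_comm c]; group
  obtain ⟨b', hb', hbe⟩ := I.mem_AG.1 (hN b hb)
  have e : I.ι a = I.ι (b' * w * (b' * w)) := by
    have hz2 : I.ι b * I.ι w * (I.ι b * I.ι w) = z := by rw [← map_mul, ← map_mul, hbz, ι_zc]
    rw [map_mul I.ι (b' * w), map_mul I.ι b' w, hbe, ← hhz]
    calc h * z * h⁻¹ = h * (I.ι b * I.ι w * (I.ι b * I.ι w)) * h⁻¹ := by rw [hz2]
      _ = h * I.ι b * h⁻¹ * (h * I.ι w * h⁻¹) * (h * I.ι b * h⁻¹ * (h * I.ι w * h⁻¹)) := by group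
      _ = _ := by rw [show h * I.ι w * h⁻¹ = I.ι w by rw [hhw.eq, mul_inv_cancel_right]]
  rcases hcomm b' hb' with e' | e' <;> rw [e'] at e
  · exact hai.2 (I.ι_inj e)
  · rw [I.ι_inj e, tag_zc] at hat
    norm_num at hat

/-- All conjugates of the centre lie in `A`. -/
theorem mem_AG_of_conj {x : G} (hx : IsConj z x) : x ∈ I.AG := by
  by_contra hxA
  have hu := isInv_rep (show 2 < 8 by norm_num)
  have ht : tag (rep 2) = 2 := tag_rep (by norm_num)
  have hnz : ¬ I.ZType (rep 2) := fun h => by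
    have := hle _ h
    omega
  have hxx := I.sq_of_conj hx
  have hne : ¬ Odd (orderOf (I.ι (rep 2) * x)) := by
    intro hodd
    obtain ⟨g, hg, -⟩ := Pair.odd (I.ι_sq hu) hxx hodd
    exact hnz (hx.trans (isConj_iff.2 ⟨g⁻¹, by rw [← hg]; group⟩))
  rw [Nat.not_odd_iff_even, even_iff_exists_two_mul] at hne
  obtain ⟨k, hk⟩ := hne
  obtain ⟨w, hww, hw1, hwu, hwx, hcase⟩ := Pair.even (I.ι_sq hu) hxx hk
  rcases hcase with h | ⟨-, h⟩
  · have hy : IsConj z (I.ι (rep 2) * w) := hx.trans h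
    have hyA : I.ι (rep 2) * w ∈ I.AG := I.mem_of_comm_side h1 hle hu (Or.inl ht) hy (by rw [mul_assoc, hwu])
    obtain ⟨y, hy', hye⟩ := I.mem_AG.1 hyA
    have hwe : w = I.ι (rep 2 * y) := by
      rw [map_mul, hye, ← mul_assoc, I.ι_sq hu, one_mul]
    have hyc : y * rep 2 = rep 2 * y := I.ι_comm_iff.1 (by rw [hye, mul_assoc, hwu])
    have hy1 : y ≠ 1 := by
      rintro rfl
      rw [map_one] at hye
      rw [← hye] at hy
      obtain ⟨c, hc⟩ := isConj_iff.1 hy
      exact I.ι_ne zc_inv (by rw [ι_zc]; exact conj_eq_one_iff.1 hc)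
    have hchk := List.all_eq_true.1 side_products _ hy'
    have e1 : cm (code y) (repc 2) = true := by rw [← code_rep (show 2 < 8 by norm_num)]; exact cm_code.2 hyc
    have e2 : Nat.beq (code y) InvChar.Coset.HeCent.idP = false := by
      refine Bool.eq_false_iff.2 fun e => hy1 (code_inj ?_)
      rw [Nat.eq_of_beq_eq_true e, code_one]
    rw [e1, e2, ← code_rep (show 2 < 8 by norm_num), ← code_mul] at hchk
    simp only [Bool.not_true, Bool.false_or, Bool.and_eq_true, Bool.or_eq_true] at hchk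
    obtain ⟨hi, ht'⟩ := hchk
    refine hxA (I.mem_of_comm_side h1 hle (isInv_iff.2 hi) ?_ hx (by rw [← hwe]; exact hwx))
    rcases ht' with e | e
    exacts [Or.inl (Nat.eq_of_beq_eq_true e), Or.inr (Nat.eq_of_beq_eq_true e)]
  · have hy : IsConj z (x * w) := hx.trans h
    obtain ⟨c, hc⟩ := isConj_iff.1 hx
    -- move `x` to the centre
    obtain ⟨g, hg⟩ := I.exists_ι (x := c⁻¹ * (x * w) * c) (by
      calc c⁻¹ * (x * w) * c * z = c⁻¹ * (x * w * (c * z * c⁻¹)) * c := by group
        _ = c⁻¹ * (x * (x * w)) * c := by rw [hc, mul_assoc x w x, hwx, ← mul_assoc]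
        _ = c⁻¹ * ((c * z * c⁻¹) * (x * w)) * c := by rw [hc]
        _ = _ := by group)
    have hgA : inA g := inA_iff.2 (Or.inr ⟨I.isInv_of_zType (hy.trans (isConj_iff.2 ⟨c⁻¹, by rw [hg]; group⟩)),
      hle g (hy.trans (isConj_iff.2 ⟨c⁻¹, by rw [hg]; group⟩))⟩)
    have hw' : I.ι (zc * g) = c⁻¹ * w * c := by
      rw [map_mul, ι_zc, hg, show z = c⁻¹ * x * c by rw [← hc]; group]
      calc c⁻¹ * x * c * (c⁻¹ * (x * w) * c) = c⁻¹ * (x * x * w) * c := by group
        _ = _ := by rw [hxx, one_mul]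
    have hgne : zc * g ≠ 1 := fun e => hw1 (by
      rw [e, map_one] at hw'
      calc w = c * (c⁻¹ * w * c) * c⁻¹ := by group
        _ = 1 := by rw [← hw']; group)
    have hwz : IsConj z w := (I.zType_side_inA h1 (inA_mul inA_zc hgA) hgne).trans
      (isConj_iff.2 ⟨c, by rw [hw']; group⟩)
    have hwA : w ∈ I.AG := I.mem_of_comm_side h1 hle hu (Or.inl ht) hwz hwu.symm
    exact hxA (I.mem_of_comm h1 hle hwA hw1 hx hwx)

/-- The group of order sixteen is normal. -/
theorem normal_AG : I.AG.Normal := by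
  refine ⟨fun y hy g => ?_⟩
  obtain ⟨a, ha, rfl⟩ := I.mem_AG.1 hy
  rcases eq_or_ne a 1 with rfl | ha1
  · rw [map_one, mul_one, mul_inv_cancel]; exact one_mem _
  · exact I.mem_AG_of_conj h1 hle ((I.zType_side_inA h1 ha ha1).trans (isConj_iff.2 ⟨g, rfl⟩))

end Side

/-- In a simple group both sides and the fifth class are conjugate to the centre. -/
theorem sides_of_simple [IsSimpleGroup G] : I.Sides := by
  have hbig : 21504 ≤ Nat.card G := by
    rw [← card_mdl]; exact Nat.card_le_card_of_injective I.ι I.ι_inj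
  have side : ∀ J : Iso z, J.ZType (rep 1) → (∀ g : Mdl, J.ZType g → tag g ≤ 1) → False := by
    intro J h1 hle
    rcases (J.normal_AG h1 hle).eq_bot_or_eq_top with e | e
    · have := J.card_AG
      rw [e, card_bot] at this
      norm_num at this
    · have := J.card_AG
      rw [e, card_top] at this
      omega
  rcases I.cases with h | ⟨h1, hle⟩ | ⟨h1, hle⟩ | h
  · exfalso
    obtain ⟨P, S, hS, -⟩ := I.exists_sylow I.factorization_two'
    have hzS : z ∈ (S : Subgroup G) := by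
      haveI : Fact (Nat.Prime 2) := ⟨Nat.prime_two⟩
      have hw : IsPGroup 2 ↥(zpowers z) := by
        refine IsPGroup.of_card (n := 1) ?_
        rw [Nat.card_zpowers, pow_one]
        exact orderOf_eq_prime (by rw [pow_two, I.zz]) (I.ι_zc ▸ I.ι_ne zc_inv)
      have hnorm : zpowers z ≤ normalizer ((S : Subgroup G) : Set G) := by
        rw [zpowers_le]
        refine mem_normalizer_iff.2 fun p => ⟨fun hp => ?_, fun hp => ?_⟩
        · obtain ⟨q, -, rfl⟩ := hS ▸ hp
          show z * I.ι q * z⁻¹ ∈ (S : Subgroup G)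
          rw [← I.ι_comm q, mul_inv_cancel_right]; exact hp
        · obtain ⟨q, hq, hqe⟩ := hS ▸ hp
          have e : p = I.ι q := by
            calc p = z⁻¹ * (z * p * z⁻¹) * z := by group
              _ = z⁻¹ * (I.ι q * z) := by rw [← hqe]; group
              _ = _ := by rw [I.ι_comm q]; group
          rw [e, hS]; exact ⟨q, hq, rfl⟩
      exact (S.3 (hw.to_sup_of_normal_right' S.2 hnorm) le_sup_right).le (mem_sup_left (mem_zpowers z))
    obtain ⟨N, hN, hodd, hcomm⟩ := S0215.result S z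
      (orderOf_eq_prime (hp := ⟨Nat.prime_two⟩) (by rw [pow_two, I.zz]) (I.ι_zc ▸ I.ι_ne zc_inv)) hzS
      (fun g hg => by
        obtain ⟨q, -, hq⟩ := hS.le hg
        rw [← hq, h q (isConj_iff.2 ⟨g, hq.symm⟩), ι_zc])
    have hbot : N = ⊥ := by
      refine hN.eq_bot_or_eq_top.resolve_right fun e => ?_
      rw [e, card_top] at hodd
      have h2 : 2 ∣ Nat.card G := by
        have := orderOf_dvd_natCard z
        rwa [orderOf_eq_prime (hp := ⟨Nat.prime_two⟩) (by rw [pow_two, I.zz]) (I.ι_zc ▸ I.ι_ne zc_inv)] at this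
      exact Nat.not_even_iff_odd.2 hodd (even_iff_two_dvd.2 h2)
    have hZ : (zpowers z).Normal := ⟨fun y hy g => by
      obtain ⟨i, rfl⟩ := hy
      refine ⟨i, ?_⟩
      have hc := hcomm g
      rw [hbot, mem_bot] at hc
      have hzg : Commute g z := (mul_inv_eq_iff_eq_mul.1 (mul_inv_eq_one.1 hc)).symm
      show z ^ i = g * z ^ i * g⁻¹
      rw [(hzg.zpow_right i).eq, mul_inv_cancel_right]⟩
    have hc2 : Nat.card (zpowers z) = 2 := by
      rw [Nat.card_zpowers]
      exact orderOf_eq_prime (hp := ⟨Nat.prime_two⟩) (by rw [pow_two, I.zz]) (I.ι_zc ▸ I.ι_ne zc_inv)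
    rcases hZ.eq_bot_or_eq_top with e | e <;> rw [e] at hc2
    · rw [card_bot] at hc2; norm_num at hc2
    · rw [card_top] at hc2; omega
  · exact (side I h1 hle).elim
  · exact (side I.swap h1 hle).elim
  · exact h

end Iso

end Cfsg.Agent.HeLocal
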