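import Cfsg.Agent.Lib.HeLocal.Pattern.Basic

/-!
# Two classes of involutions when both sides are conjugate to the centre
-/

set_option autoImplicit false

namespace Cfsg.Agent.HeLocal

open Subgroup Code

namespace Iso

attribute [local irreducible] rep el code

variable {G : Type*} [Group G] {z : G} (I : Iso z)

theorem isConj_of_conj {g g' k : Mdl} (hk : k * g * k⁻¹ = g') : IsConj (I.ι g) (I.ι g') :=
  isConj_iff.2 ⟨I.ι k, by rw [← hk, map_mul, map_mul, map_inv]⟩

/-- Both sides and the fifth class are conjugate to the centre. -/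
structure Sides : Prop where
  one : I.ZType (rep 1)
  two : I.ZType (rep 2)
  four : I.ZType (rep 4)

/-- The classes of the model after exchanging the sides. -/
theorem swap_zType {i : ℕ} (hi : i < 8) : I.swap.ZType (rep i) ↔ I.ZType (rep (Theta.sw i)) := by
  obtain ⟨h, ht⟩ := Theta.equiv_rep hi
  rw [ZType, swap_ι]
  exact I.zType_iff_of_tag h (isInv_rep (ht ▸ tag_lt h)) (by rw [ht, tag_rep (ht ▸ tag_lt h)])

theorem swap_sides (S : I.Sides) : I.swap.Sides :=
  ⟨(I.swap_zType (by norm_num)).2 S.two, (I.swap_zType (by norm_num)).2 S.one,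
    (I.swap_zType (by norm_num)).2 S.four⟩

/-- The pattern with the degenerate cases made explicit. -/
theorem cases [Finite G] :
    (∀ g : Mdl, I.ZType g → g = zc) ∨
    (I.ZType (rep 1) ∧ ∀ g : Mdl, I.ZType g → tag g ≤ 1) ∨
    (I.swap.ZType (rep 1) ∧ ∀ g : Mdl, I.swap.ZType g → tag g ≤ 1) ∨
    I.Sides := by
  have key : ∀ (J : Iso z), J.ZType (rep 1) ∧ ¬ J.ZType (rep 2) ∧ ¬ J.ZType (rep 4) ∧ ¬ J.ZType (rep 6) ∧
      ¬ J.ZType (rep 7) → J.ZType (rep 1) ∧ ∀ g : Mdl, J.ZType g → tag g ≤ 1 := by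
    rintro J ⟨h1, h2, h4, h6, h7⟩
    refine ⟨h1, fun g hg => ?_⟩
    have hi := J.isInv_of_zType hg
    have hr := (J.zType_iff_rep hi).1 hg
    have h8 := tag_lt hi
    by_contra hle
    generalize tag g = i at hr h8 hle
    interval_cases i
    all_goals first
      | exact h2 hr | exact J.not_zType_three hr | exact h4 hr | exact J.not_zType_five hr | exact h6 hr
      | exact h7 hr
  rcases I.pattern with ⟨h1, h2, h4, h6, h7⟩ | h | ⟨h1, h2, h4, h6, h7⟩ | ⟨h1, h2, h4⟩
  · refine Or.inl fun g hg => ?_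
    have hi := I.isInv_of_zType hg
    refine eq_zc_of_tag hi ?_
    have hr := (I.zType_iff_rep hi).1 hg
    have h8 := tag_lt hi
    generalize tag g = i at hr h8
    interval_cases i
    all_goals first
      | rfl | exact absurd hr h1 | exact absurd hr h2 | exact absurd hr I.not_zType_three | exact absurd hr h4
      | exact absurd hr I.not_zType_five | exact absurd hr h6 | exact absurd hr h7
  · exact Or.inr (Or.inl (key I h))
  · refine Or.inr (Or.inr (Or.inl (key I.swap ⟨?_, ?_, ?_, ?_, ?_⟩)))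
    · exact (I.swap_zType (by norm_num)).2 h2
    · exact fun h => h1 ((I.swap_zType (by norm_num)).1 h)
    · exact fun h => h4 ((I.swap_zType (by norm_num)).1 h)
    · exact fun h => h7 ((I.swap_zType (by norm_num)).1 h)
    · exact fun h => h6 ((I.swap_zType (by norm_num)).1 h)
  · exact Or.inr (Or.inr (Or.inr ⟨h1, h2, h4⟩))

/-- The packed triple of the witness is in the table. -/
theorem witness_six : ∃ x : Mdl, IsInv x ∧ x * rep 1 = rep 1 * x ∧ tag x = 6 ∧
    IsInv (x * rep 1) ∧ tag (x * rep 1) = 4 := by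
  have hm : 384 ∈ profile 1 := by rw [profile1_eq]; decide +kernel
  obtain ⟨a, ha, hv⟩ := List.mem_map.1 hm
  obtain ⟨ha1, ha2⟩ := List.mem_filter.1 ha
  obtain ⟨e, he, rfl⟩ := List.mem_map.1 ha1
  have h := List.all_eq_true.1 certs_ok e he
  simp only [certOK, Bool.and_eq_true, Nat.blt_eq] at h
  have hx : code (el e.1) = e.1 := code_el h.1.1.1.1
  have hm1 : code (el e.1 * rep 1) = mulF e.1 (repc 1) := by
    rw [code_mul, hx, code_rep (by norm_num)]
  have hm0 : code (el e.1 * zc) = mulF e.1 (repc 0) := by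
    rw [code_mul, hx, zc, code_rep (by norm_num)]
  have bound : ∀ y : Mdl, tagS (code y) ≤ 8 := by
    intro y
    rcases em (IsInv y) with hy | hy
    · rw [tagS, isInv_iff.1 hy, cond_true]; exact (tag_lt hy).le
    · rw [tagS, Bool.eq_false_iff.2 (fun e => hy (isInv_iff.2 e)), cond_false]
  have hb0 := bound (el e.1 * zc)
  have hb1 := bound (el e.1 * rep 1)
  rw [hm0] at hb0
  rw [hm1] at hb1
  have ht : tagc e.1 = 6 := by omega
  have ht1 : tagS (mulF e.1 (repc 1)) = 4 := by omega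
  have hi : isInv (mulF e.1 (repc 1)) = true := by
    by_contra e'
    rw [tagS, Bool.eq_false_iff.2 e', cond_false] at ht1
    norm_num at ht1
  refine ⟨el e.1, isInv_iff.2 (by rw [hx]; exact h.1.1.2), cm_code.1 (by rw [hx, code_rep (by norm_num)]; exact ha2),
    by rw [tag, hx, ht], isInv_iff.2 (by rw [hm1]; exact hi), ?_⟩
  rw [tagS, hi, cond_true] at ht1
  rw [tag, hm1, ht1]

variable [Finite G]

/-- The classes `W` and `5` are conjugate. -/
theorem isConj_three_five (S : I.Sides) : IsConj (I.ι (rep 3)) (I.ι (rep 5)) := by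
  obtain ⟨s, hs, hs'⟩ := I.exists_swap_of_zType S.one
  obtain ⟨y, hy, hy2, hyc, hyr, hyr3⟩ := exists_witness
  obtain ⟨y', -, hy'⟩ := I.swap_transport hs hs' hyc
  have hyz : I.ZType y := (I.zType_iff_rep hy).2 (hy2 ▸ S.two)
  have hy'z : I.ZType y' := hyz.trans (isConj_iff.2 ⟨s, hy'.symm⟩)
  have hy'i := I.isInv_of_zType hy'z
  have hprod : I.ι (zc * y') = s * I.ι (y * rep 1) * s⁻¹ := by
    rw [map_mul, ι_zc, ← I.ι_comm y', hy', map_mul]
    calc s * I.ι y * s⁻¹ * z = s * I.ι y * s⁻¹ * (s * I.ι (rep 1) * s⁻¹) :=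
          congrArg (s * I.ι y * s⁻¹ * ·) hs.symm
      _ = _ := by group
  have hc : IsConj (I.ι (rep 3)) (I.ι (zc * y')) := by
    obtain ⟨k, hk⟩ := exists_conj_of_tag_eq (isInv_rep (show 3 < 8 by norm_num)) hyr
      (by rw [hyr3, tag_rep (by norm_num)])
    exact (isConj_iff.2 ⟨I.ι k, by rw [← hk, map_mul, map_mul, map_inv]⟩).trans
      (isConj_iff.2 ⟨s, hprod.symm⟩)
  have hnz : ¬ I.ZType (zc * y') := fun h => I.not_zType_three (h.trans hc.symm)
  rcases eq_or_ne (tag y') 0 with h0 | h0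
  · exfalso
    have e : I.ι (zc * y') = 1 := by rw [eq_zc_of_tag hy'i h0, zc_inv.1, map_one]
    rw [hprod] at e
    exact I.ι_ne hyr (conj_eq_one_iff.1 e)
  obtain ⟨hzi, hzt⟩ := tag_zmul hy'i h0
  by_cases h45 : tag y' = 4 ∨ tag y' = 5
  · rcases h45 with h | h
    · obtain ⟨k, hk⟩ := exists_conj_of_tag_eq hzi (isInv_rep (show 5 < 8 by norm_num))
        (by rw [hzt, h, tag_rep (by norm_num)]; rfl)
      exact hc.trans (I.isConj_of_conj hk)
    · exact absurd ((I.zType_iff_rep hy'i).1 hy'z) (h ▸ I.not_zType_five)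
  · refine absurd ((I.zType_iff_of_tag hzi hy'i ?_).2 hy'z) hnz
    rw [hzt, swap45, if_neg (fun e => h45 (Or.inl e)), if_neg (fun e => h45 (Or.inr e))]

/-- The seventh class is in the class of `5` if it is not conjugate to the centre. -/
theorem isConj_six_five (S : I.Sides) (h6 : ¬ I.ZType (rep 6)) : IsConj (I.ι (rep 6)) (I.ι (rep 5)) := by
  obtain ⟨s, hs, hs'⟩ := I.exists_swap_of_zType S.one
  obtain ⟨x, hx, hxc, hx6, hxr, hxr4⟩ := witness_six
  obtain ⟨x', -, hx'⟩ := I.swap_transport hs hs' hxc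
  have hxz : ¬ I.ZType x := fun h => h6 (hx6 ▸ (I.zType_iff_rep hx).1 h)
  have hx'z : ¬ I.ZType x' := fun h => hxz (h.trans (isConj_iff.2 ⟨s⁻¹, by rw [hx']; group⟩))
  have hx'i : IsInv x' := I.isInv_of
    (by rw [hx', show s * I.ι x * s⁻¹ * (s * I.ι x * s⁻¹) = s * (I.ι x * I.ι x) * s⁻¹ by group, I.ι_sq hx]
        group)
    (by rw [hx']; exact fun e => I.ι_ne hx (conj_eq_one_iff.1 e))
  have hprod : I.ι (zc * x') = s * I.ι (x * rep 1) * s⁻¹ := by
    rw [map_mul, ι_zc, ← I.ι_comm x', hx', map_mul]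
    calc s * I.ι x * s⁻¹ * z = s * I.ι x * s⁻¹ * (s * I.ι (rep 1) * s⁻¹) :=
          congrArg (s * I.ι x * s⁻¹ * ·) hs.symm
      _ = _ := by group
  have hzz : I.ZType (zc * x') :=
    ((I.zType_iff_rep hxr).2 (hxr4 ▸ S.four)).trans (isConj_iff.2 ⟨s, hprod.symm⟩)
  have h0 : tag x' ≠ 0 := fun e => hx'z (by rw [eq_zc_of_tag hx'i e]; exact I.zType_zc)
  obtain ⟨hzi, hzt⟩ := tag_zmul hx'i h0
  have h5 : tag x' = 5 := by
    by_contra h5
    by_cases h4 : tag x' = 4
    · exact hx'z ((I.zType_iff_rep hx'i).2 (h4 ▸ S.four))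
    · exact hx'z ((I.zType_iff_of_tag hzi hx'i (by rw [hzt, swap45, if_neg h4, if_neg h5])).1 hzz)
  obtain ⟨k, hk⟩ := exists_conj_of_tag_eq (isInv_rep (show 6 < 8 by norm_num)) hx
    (by rw [hx6, tag_rep (by norm_num)])
  obtain ⟨j, hj⟩ := exists_conj_of_tag_eq hx'i (isInv_rep (show 5 < 8 by norm_num))
    (by rw [h5, tag_rep (by norm_num)])
  exact ((isConj_iff.2 ⟨I.ι k, by rw [← hk, map_mul, map_mul, map_inv]⟩).trans
    (isConj_iff.2 ⟨s, hx'.symm⟩)).trans (isConj_iff.2 ⟨I.ι j, by rw [← hj, map_mul, map_mul, map_inv]⟩)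

/-- Every involution is conjugate to `z` or to the third representative. -/
theorem isConj_or (S : I.Sides) {x : G} (hx : x * x = 1) (hx1 : x ≠ 1) :
    IsConj z x ∨ IsConj (I.ι (rep 3)) x := by
  obtain ⟨d, g, hg, hd⟩ := I.exists_conj_mdl hx hx1
  have hback : IsConj (I.ι g) x := isConj_iff.2 ⟨d⁻¹, by rw [← hd]; group⟩
  obtain ⟨k, hk⟩ := exists_conj_rep hg
  have hrep : IsConj (I.ι (rep (tag g))) (I.ι g) :=
    isConj_iff.2 ⟨I.ι k, by rw [← map_inv, ← map_mul, ← map_mul, hk]⟩
  have h35 := I.isConj_three_five S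
  have h65 : ¬ I.ZType (rep 6) → IsConj (I.ι (rep 3)) (I.ι (rep 6)) := fun h =>
    h35.trans (I.isConj_six_five S h).symm
  have h75 : ¬ I.ZType (rep 7) → IsConj (I.ι (rep 3)) (I.ι (rep 7)) := by
    intro h
    have h' := I.swap.isConj_six_five (I.swap_sides S) (fun e => h ((I.swap_zType (by norm_num)).1 e))
    rw [swap_ι, swap_ι] at h'
    obtain ⟨hi6, ht6⟩ := Theta.equiv_rep (show 6 < 8 by norm_num)
    obtain ⟨hi5, ht5⟩ := Theta.equiv_rep (show 5 < 8 by norm_num)
    obtain ⟨a, ha⟩ := exists_conj_of_tag_eq (isInv_rep (show 7 < 8 by norm_num)) hi6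
      (by rw [tag_rep (by norm_num), ht6]; rfl)
    obtain ⟨b, hb⟩ := exists_conj_of_tag_eq hi5 (isInv_rep (show 5 < 8 by norm_num))
      (by rw [tag_rep (by norm_num), ht5]; rfl)
    refine h35.trans ?_
    exact (((I.isConj_of_conj ha).trans h').trans (I.isConj_of_conj hb)).symm
  have main : I.ZType (rep (tag g)) ∨ IsConj (I.ι (rep 3)) (I.ι (rep (tag g))) := by
    have h8 := tag_lt hg
    generalize tag g = i at h8
    interval_cases i
    · exact Or.inl I.zType_zc
    · exact Or.inl S.one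
    · exact Or.inl S.two
    · exact Or.inr (IsConj.refl _)
    · exact Or.inl S.four
    · exact Or.inr h35
    · exact (em _).imp_right h65
    · exact (em _).imp_right h75
  exact main.imp (fun h => (h.trans hrep).trans hback) fun h => (h.trans hrep).trans hback

/-- Exactly two classes of involutions. -/
theorem two_classes (S : I.Sides) : ∃ x y : G, orderOf x = 2 ∧ orderOf y = 2 ∧ ¬ IsConj x y ∧
    ∀ w : G, orderOf w = 2 → IsConj w x ∨ IsConj w y := by
  haveI : Fact (Nat.Prime 2) := ⟨Nat.prime_two⟩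
  have h3 := isInv_rep (show 3 < 8 by norm_num)
  refine ⟨z, I.ι (rep 3), orderOf_eq_prime ?_ ?_, orderOf_eq_prime ?_ (I.ι_ne h3), I.not_zType_three,
    fun w hw => ?_⟩
  · rw [pow_two, ← I.ι_zc, I.ι_sq zc_inv]
  · rw [← I.ι_zc]; exact I.ι_ne zc_inv
  · rw [pow_two, I.ι_sq h3]
  · have hw1 : w ≠ 1 := fun e => by rw [e, orderOf_one] at hw; norm_num at hw
    have hw2 : w * w = 1 := by
      have := pow_orderOf_eq_one w
      rwa [hw, pow_two] at this
    exact (I.isConj_or S hw2 hw1).imp IsConj.symm IsConj.symm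

/-- The pattern of the Held group gives the local setting. -/
theorem setting_of_pattern (S : I.Sides) (h6 : I.ZType (rep 6)) (h7 : I.ZType (rep 7)) :
    Nonempty (Setting z) := by
  refine ⟨{ e := I.e, e_zc := I.e_zc, fusion := fun g hg => ?_ }⟩
  show I.ZType g ↔ _
  rw [I.zType_iff_rep hg]
  have h8 := tag_lt hg
  generalize tag g = i at h8
  interval_cases i
  all_goals first
    | exact iff_of_true I.zType_zc (by norm_num)
    | exact iff_of_true S.one (by norm_num)
    | exact iff_of_true S.two (by norm_num)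
    | exact iff_of_false I.not_zType_three (by norm_num)
    | exact iff_of_true S.four (by norm_num)
    | exact iff_of_false I.not_zType_five (by norm_num)
    | exact iff_of_true h6 (by norm_num)
    | exact iff_of_true h7 (by norm_num)

end Iso

end Cfsg.Agent.HeLocal
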