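import Cfsg.Agent.Lib.HeLocal.Facts

/-!
# Classes of an involution and of its products with the centre and with a fixed involution

For each representative `g` of a class, the list of the triples `(tag a, tag (a * z), tag (a * g))` of the
involutions `a` commuting with `g` (packed in base nine, eight for the identity), and the finite check that
counting pairs of involutions of a union of classes decides the possible unions.
-/

set_option autoImplicit false
set_option maxRecDepth 100000

namespace Cfsg.Agent.HeLocal.Code

/-- The class, eight if not an involution. -/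
def tagS (a : ℕ) : ℕ := bif isInv a then tagc a else 8

/-- The packed triples. -/
def profile (i : ℕ) : List ℕ :=
  (invCodes.filter fun a => cm a (repc i)).map fun a =>
    tagc a + 9 * tagS (mulF a (repc 0)) + 81 * tagS (mulF a (repc i))

/-- The triples at the representative 1. -/
def profile1 : List ℕ := [
  153, 658, 10, 91, 91, 91, 91, 91, 91, 91, 91, 91, 91, 91, 91, 263, 263, 263, 263, 263, 263, 192, 192, 273,
  273, 273, 273, 192, 192, 273, 273, 273, 273, 192, 192, 273, 273, 273, 273, 535, 535, 535, 535, 535, 535,
  535, 535, 373, 373, 454, 454, 535, 535, 535, 535, 535, 535, 535, 535, 373, 373, 454, 454, 373, 373, 454,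
  454, 535, 535, 535, 535, 535, 535, 535, 535, 527, 527, 527, 527, 527, 527, 527, 527, 446, 446, 365, 365,
  527, 527, 527, 527, 527, 527, 527, 527, 446, 446, 365, 365, 446, 446, 365, 365, 527, 527, 527, 527, 527,
  527, 527, 527, 384, 465, 384, 465, 384, 465, 465, 384, 384, 465, 384, 465, 384, 465, 465, 384, 546, 546,
  546, 546, 546, 546, 546, 546, 384, 465, 384, 465, 384, 465, 465, 384, 384, 465, 384, 465, 384, 465, 465,
  384, 546, 546, 546, 546, 546, 546, 546, 546, 546, 546, 546, 546, 546, 546, 546, 546, 384, 465, 384, 465,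
  384, 465, 465, 384, 384, 465, 384, 465, 384, 465, 465, 384, 637, 637, 637, 637, 637, 637, 637, 637, 637,
  637, 637, 637, 637, 637, 637, 637, 637, 637, 637, 637, 637, 637, 637, 637]

/-- The triples at the representative 2. -/
def profile2 : List ℕ := [
  234, 253, 253, 253, 253, 253, 253, 668, 20, 182, 182, 182, 182, 182, 182, 182, 182, 182, 182, 182, 182, 111,
  111, 111, 111, 111, 111, 273, 273, 273, 273, 273, 273, 273, 273, 273, 273, 273, 273, 616, 616, 616, 616,
  616, 616, 616, 616, 373, 454, 373, 454, 373, 454, 373, 454, 373, 454, 373, 454, 616, 616, 616, 616, 616,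
  616, 616, 616, 616, 616, 616, 616, 616, 616, 616, 616, 608, 608, 608, 608, 608, 608, 608, 608, 446, 365,
  446, 365, 446, 365, 446, 365, 446, 365, 446, 365, 608, 608, 608, 608, 608, 608, 608, 608, 608, 608, 608,
  608, 608, 608, 608, 608, 546, 546, 546, 546, 546, 546, 546, 546, 546, 546, 546, 546, 546, 546, 546, 546,
  546, 546, 546, 546, 546, 546, 546, 546, 394, 475, 394, 475, 394, 475, 475, 394, 394, 475, 394, 475, 394,
  475, 475, 394, 637, 637, 637, 637, 637, 637, 637, 637, 637, 637, 637, 637, 637, 637, 637, 637, 637, 637,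
  637, 637, 637, 637, 637, 637, 394, 475, 394, 475, 394, 475, 475, 394, 394, 475, 394, 475, 394, 475, 475,
  394, 394, 475, 394, 475, 394, 475, 475, 394, 394, 475, 394, 475, 394, 475, 475, 394]

/-- The triples at the representative 4. -/
def profile4 : List ℕ := [
  477, 496, 496, 334, 415, 496, 496, 587, 587, 344, 425, 587, 587, 597, 597, 516, 516, 435, 354, 516, 516,
  597, 597, 697, 130, 211, 292, 373, 373, 616, 616, 373, 535, 373, 535, 373, 373, 616, 616, 373, 535, 373,
  535, 41, 122, 203, 284, 446, 446, 608, 608, 446, 527, 446, 527, 446, 446, 608, 608, 446, 527, 446, 527, 141,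
  141, 141, 141, 303, 303, 303, 303, 384, 465, 546, 546, 465, 384, 546, 546, 546, 546, 384, 465, 546, 546,
  465, 384, 232, 232, 313, 313, 232, 232, 313, 313, 394, 475, 475, 394, 637, 637, 637, 637, 637, 637, 637,
  637, 394, 475, 475, 394]

/-- The triples at the representative 6. -/
def profile6 : List ℕ := [
  558, 334, 415, 496, 496, 334, 415, 506, 506, 354, 435, 516, 516, 435, 354, 130, 130, 292, 292, 373, 535,
  454, 535, 535, 373, 535, 454, 122, 122, 284, 284, 446, 527, 365, 527, 527, 446, 527, 365, 708, 60, 141, 141,
  222, 222, 303, 303, 546, 546, 546, 546, 384, 465, 546, 546, 384, 465, 546, 546, 546, 546, 546, 546, 384,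
  465, 546, 546, 465, 384, 546, 546]

/-- The triples at the representative 7. -/
def profile7 : List ℕ := [
  639, 577, 577, 344, 425, 587, 587, 344, 425, 354, 435, 597, 597, 435, 354, 211, 292, 211, 292, 373, 454,
  616, 616, 616, 616, 373, 454, 203, 284, 203, 284, 446, 365, 608, 608, 608, 608, 446, 365, 718, 70, 151, 151,
  232, 232, 313, 313, 394, 475, 394, 475, 637, 637, 637, 637, 637, 637, 637, 637, 394, 475, 475, 394, 637,
  637, 637, 637, 637, 637, 637, 637]

theorem profile1_eq : profile 1 = profile1 := by decide +kernel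

theorem profile2_eq : profile 2 = profile2 := by decide +kernel

theorem profile4_eq : profile 4 = profile4 := by decide +kernel

theorem profile6_eq : profile 6 = profile6 := by decide +kernel

theorem profile7_eq : profile 7 = profile7 := by decide +kernel

/-- The table. -/
def profileTable : ℕ → List ℕ
  | 1 => profile1
  | 2 => profile2
  | 4 => profile4
  | 6 => profile6
  | 7 => profile7
  | _ => []

theorem profileTable_eq {i : ℕ} (h : i = 1 ∨ i = 2 ∨ i = 4 ∨ i = 6 ∨ i = 7) : profile i = profileTable i := by
  rcases h with rfl | rfl | rfl | rfl | rfl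
  exacts [profile1_eq, profile2_eq, profile4_eq, profile6_eq, profile7_eq]

/-- A union of classes given by five bits. -/
def inS (b1 b2 b4 b6 b7 : Bool) : ℕ → Bool
  | 0 => true
  | 1 => b1
  | 2 => b2
  | 4 => b4
  | 6 => b6
  | 7 => b7
  | _ => false

/-- The pairs with the centre. -/
def cntZ (S : ℕ → Bool) (l : List ℕ) : ℕ := l.countP fun v => S (v % 9) && S (v / 9 % 9)

/-- The pairs with the involution. -/
def cntG (S : ℕ → Bool) (l : List ℕ) : ℕ := l.countP fun v => S (v % 9) && S (v / 81)

/-- A class of the union has a partner in it. -/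
def partner (S : ℕ → Bool) (i : ℕ) : Bool :=
  !S i || [1, 2, 4, 6, 7].any fun j => S j &&
    Nat.beq ([21504, 1536, 1536, 512, 256, 256, 128, 128].getD i 0)
      ([21504, 1536, 1536, 512, 256, 256, 128, 128].getD j 0) &&
    Nat.beq (cntZ S (profileTable i)) (cntG S (profileTable j)) &&
    Nat.beq (cntG S (profileTable i)) (cntZ S (profileTable j))

/-- The possible unions. -/
theorem partner_cases : ∀ b1 b2 b4 b6 b7 : Bool,
    ([1, 2, 4, 6, 7].all fun i => partner (inS b1 b2 b4 b6 b7) i) = true →
      (b1 = false ∧ b2 = false ∧ b4 = false ∧ b6 = false ∧ b7 = false) ∨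
      (b1 = true ∧ b2 = false ∧ b4 = false ∧ b6 = false ∧ b7 = false) ∨
      (b1 = false ∧ b2 = true ∧ b4 = false ∧ b6 = false ∧ b7 = false) ∨
      (b1 = true ∧ b2 = true ∧ b4 = true) := by decide +kernel

end Cfsg.Agent.HeLocal.Code
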