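import Cfsg.Agent.Lib.HeLocal.FusionBase
import Cfsg.Agent.Lib.HeLocal.Pattern.Data

/-!
# The possible classes of the conjugates of the centre, from the centralizer alone

A reversal `c` of the pair `(z, g)` carries the centralizer of the pair to that of `(g', z)`; counting the
conjugates of `z` whose product with `z`, or with `g`, is again a conjugate decides the possible unions of
classes. Also: every Sylow two subgroup of the model is one of the group, so every involution of the group
moves into the centralizer of `z`.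
-/

set_option autoImplicit false

namespace Cfsg.Agent.HeLocal

open Subgroup Code

namespace Iso

variable {G : Type*} [Group G] {z : G} (I : Iso z)

theorem isInv_of_zType {g : Mdl} (h : I.ZType g) : IsInv g := by
  obtain ⟨c, hc⟩ := isConj_iff.1 h
  refine I.isInv_of ?_ ?_
  · rw [← hc, show c * z * c⁻¹ * (c * z * c⁻¹) = c * (z * z) * c⁻¹ by group, ← I.ι_zc, I.ι_sq zc_inv]; group
  · rw [← hc]; exact fun e => I.ι_ne zc_inv (by rw [ι_zc]; exact conj_eq_one_iff.1 e)

/-- The union of the classes conjugate to the centre, as a Boolean function. -/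
noncomputable def zS : ℕ → Bool :=
  open Classical in
  inS (decide (I.ZType (rep 1))) (decide (I.ZType (rep 2))) (decide (I.ZType (rep 4)))
    (decide (I.ZType (rep 6))) (decide (I.ZType (rep 7)))

theorem zS_iff {i : ℕ} (hi : i < 8) : zS I i = true ↔ I.ZType (rep i) := by
  unfold zS
  interval_cases i <;> simp only [inS, decide_eq_true_eq]
  · exact iff_of_true trivial I.zType_zc
  · exact iff_of_false Bool.false_ne_true I.not_zType_three
  · exact iff_of_false Bool.false_ne_true I.not_zType_five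

theorem zS_code (g : Mdl) : zS I (tagS (code g)) = true ↔ I.ZType g := by
  rcases em (IsInv g) with hg | hg
  · rw [tagS, isInv_iff.1 hg, cond_true, ← tag, I.zS_iff (tag_lt hg), I.zType_iff_rep hg]
  · rw [tagS, Bool.eq_false_iff.2 (fun e => hg (isInv_iff.2 e)), cond_false]
    exact iff_of_false (by simp [zS, inS]) fun e => hg (I.isInv_of_zType e)

/-- The pairs of conjugates of `z` differing by `b`, in the centralizer of `g`. -/
noncomputable def pairs (g b : Mdl) : ℕ :=
  Nat.card {x : Mdl // x * g = g * x ∧ I.ZType x ∧ I.ZType (x * b)}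

variable {I}

theorem Rev.pairs_le [Finite G] {g g' : Mdl} {c : G} (R : I.Rev g g' c) :
    pairs I g zc ≤ pairs I g' g' ∧ pairs I g g ≤ pairs I g' zc := by
  choose f hf1 hf2 using fun q : {x : Mdl // x * g = g * x} => R.transport q.2
  have key : ∀ b b' : Mdl, c⁻¹ * I.ι b * c = I.ι b' → pairs I g b ≤ pairs I g' b' := by
    intro b b' hb
    have hz : ∀ (x : Mdl) (y : Mdl), c⁻¹ * I.ι x * c = I.ι y → I.ZType x → I.ZType y := fun x y e h =>
      h.trans (isConj_iff.2 ⟨c⁻¹, by rw [inv_inv, e]⟩)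
    refine Nat.card_le_card_of_injective
      (fun x : {x : Mdl // x * g = g * x ∧ I.ZType x ∧ I.ZType (x * b)} =>
        (⟨f ⟨x.1, x.2.1⟩, hf1 _, hz _ _ (hf2 _).symm x.2.2.1, hz _ _ (by
          rw [map_mul, map_mul, hf2, ← hb]; group) x.2.2.2⟩ :
          {y : Mdl // y * g' = g' * y ∧ I.ZType y ∧ I.ZType (y * b')})) ?_
    intro x y h
    have h' : I.ι (f ⟨x.1, x.2.1⟩) = I.ι (f ⟨y.1, y.2.1⟩) := congrArg I.ι (Subtype.mk_eq_mk.1 h)
    rw [hf2, hf2] at h'
    exact Subtype.ext (I.ι_inj (mul_left_cancel (mul_right_cancel h')))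
  exact ⟨key zc g' (by rw [ι_zc, R.bwd]), key g zc (by rw [ι_zc, R.conj_zc])⟩

theorem Rev.pairs_eq [Finite G] {g g' : Mdl} {c : G} (R : I.Rev g g' c) :
    pairs I g zc = pairs I g' g' ∧ pairs I g g = pairs I g' zc :=
  ⟨le_antisymm R.pairs_le.1 R.symm.pairs_le.2, le_antisymm R.pairs_le.2 R.symm.pairs_le.1⟩

variable (I)

theorem pairs_rep {i : ℕ} (hi : i < 8) :
    pairs I (rep i) zc = cntZ (zS I) (profile i) ∧ pairs I (rep i) (rep i) = cntG (zS I) (profile i) := by
  have hinK : ∀ a ∈ invCodes, inK a = true := by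
    intro a ha
    obtain ⟨e, he, rfl⟩ := List.mem_map.1 ha
    have h := List.all_eq_true.1 certs_ok e he
    simp only [certOK, Bool.and_eq_true] at h
    exact h.1.1.1.1
  have hnd : invCodes.Nodup := certs_nodup
  have hlt : ∀ a ∈ invCodes, tagc a < 9 ∧ tagS a = tagc a := by
    intro a ha
    obtain ⟨e, he, rfl⟩ := List.mem_map.1 ha
    have h := List.all_eq_true.1 certs_ok e he
    simp only [certOK, Bool.and_eq_true, Nat.blt_eq] at h
    exact ⟨lt_trans h.1.2 (by norm_num), by rw [tagS, h.1.1.2, cond_true]⟩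
  have hS9 : ∀ a, tagS (mulF a (repc 0)) < 9 ∨ (isInv (mulF a (repc 0)) = true ∧ 9 ≤ tagc (mulF a (repc 0))) := by
    intro a
    rcases Bool.eq_false_or_eq_true (isInv (mulF a (repc 0))) with e | e
    · rcases lt_or_ge (tagc (mulF a (repc 0))) 9 with h | h
      · exact Or.inl (by rw [tagS, e, cond_true]; exact h)
      · exact Or.inr ⟨e, h⟩
    · exact Or.inl (by rw [tagS, e, cond_false]; norm_num)
  have hcount : ∀ (b : Mdl) (P : ℕ → Bool),
      (∀ x : Mdl, P (code x) = true ↔ I.ZType x ∧ I.ZType (x * b)) →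
      pairs I (rep i) b = ((invCodes.filter fun a => cm a (repc i)).countP P) := by
    intro b P hP
    rw [List.countP_eq_length_filter, pairs]
    refine card_eq_list ((hnd.filter _).filter _) (fun a ha => hinK a (List.mem_filter.1 (List.mem_filter.1 ha).1).1) ?_
    intro x
    rw [List.mem_filter, List.mem_filter, ← code_rep hi, cm_code, hP]
    exact ⟨fun h => ⟨⟨code_mem_invCodes (I.isInv_of_zType h.2.1), h.1⟩, h.2⟩, fun h => ⟨h.1.2, h.2⟩⟩
  constructor
  · rw [hcount zc (fun a => zS I (tagS a) && zS I (tagS (mulF a (repc 0)))) (fun x => by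
      rw [Bool.and_eq_true, I.zS_code, show mulF (code x) (repc 0) = code (x * zc) by
        rw [code_mul, zc, code_rep (by norm_num)], I.zS_code]), cntZ, profile, List.countP_map]
    refine List.countP_congr fun a ha => ?_
    have ha' := List.mem_filter.1 ha
    obtain ⟨h1, h2⟩ := hlt a ha'.1
    have h3 : tagS (mulF a (repc 0)) < 9 := by
      rcases hS9 a with h | ⟨h, h'⟩
      · exact h
      · exfalso
        have hx : IsInv (el a * zc) := isInv_iff.2 (by
          rw [code_mul, code_el (hinK a ha'.1), zc, code_rep (by norm_num)]; exact h)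
        have := tag_lt hx
        rw [tag, code_mul, code_el (hinK a ha'.1), zc, code_rep (by norm_num)] at this
        omega
    simp only [Function.comp_apply]
    rw [h2, show (tagc a + 9 * tagS (mulF a (repc 0)) + 81 * tagS (mulF a (repc i))) % 9 = tagc a by omega,
      show (tagc a + 9 * tagS (mulF a (repc 0)) + 81 * tagS (mulF a (repc i))) / 9 % 9 =
        tagS (mulF a (repc 0)) by omega]
  · rw [hcount (rep i) (fun a => zS I (tagS a) && zS I (tagS (mulF a (repc i)))) (fun x => by
      rw [Bool.and_eq_true, I.zS_code, ← code_rep hi, ← code_mul, I.zS_code]), cntG, profile, List.countP_map]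
    refine List.countP_congr fun a ha => ?_
    have ha' := List.mem_filter.1 ha
    obtain ⟨h1, h2⟩ := hlt a ha'.1
    have h3 : tagS (mulF a (repc 0)) < 9 := by
      rcases hS9 a with h | ⟨h, h'⟩
      · exact h
      · exfalso
        have hx : IsInv (el a * zc) := isInv_iff.2 (by
          rw [code_mul, code_el (hinK a ha'.1), zc, code_rep (by norm_num)]; exact h)
        have := tag_lt hx
        rw [tag, code_mul, code_el (hinK a ha'.1), zc, code_rep (by norm_num)] at this
        omega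
    simp only [Function.comp_apply]
    rw [h2, show (tagc a + 9 * tagS (mulF a (repc 0)) + 81 * tagS (mulF a (repc i))) % 9 = tagc a by omega,
      show (tagc a + 9 * tagS (mulF a (repc 0)) + 81 * tagS (mulF a (repc i))) / 81 =
        tagS (mulF a (repc i)) by omega]

/-- The possible patterns: only the centre, one side, or both sides and the class `4`. -/
theorem pattern [Finite G] :
    (¬ I.ZType (rep 1) ∧ ¬ I.ZType (rep 2) ∧ ¬ I.ZType (rep 4) ∧ ¬ I.ZType (rep 6) ∧ ¬ I.ZType (rep 7)) ∨
    (I.ZType (rep 1) ∧ ¬ I.ZType (rep 2) ∧ ¬ I.ZType (rep 4) ∧ ¬ I.ZType (rep 6) ∧ ¬ I.ZType (rep 7)) ∨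
    (¬ I.ZType (rep 1) ∧ I.ZType (rep 2) ∧ ¬ I.ZType (rep 4) ∧ ¬ I.ZType (rep 6) ∧ ¬ I.ZType (rep 7)) ∨
    (I.ZType (rep 1) ∧ I.ZType (rep 2) ∧ I.ZType (rep 4)) := by
  classical
  have h := partner_cases (decide (I.ZType (rep 1))) (decide (I.ZType (rep 2))) (decide (I.ZType (rep 4)))
    (decide (I.ZType (rep 6))) (decide (I.ZType (rep 7))) (List.all_eq_true.2 fun i hi => ?_)
  · simpa only [decide_eq_true_eq, decide_eq_false_iff_not] using h
  have hmem : ∀ j : ℕ, j ∈ [1, 2, 4, 6, 7] → j < 8 ∧ (j = 1 ∨ j = 2 ∨ j = 4 ∨ j = 6 ∨ j = 7) := by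
    intro j hj
    simp only [List.mem_cons, List.not_mem_nil, or_false] at hj
    omega
  obtain ⟨hi8, hi'⟩ := hmem i hi
  show partner (zS I) i = true
  rw [partner, Bool.or_eq_true, Bool.not_eq_true']
  by_cases hz : I.ZType (rep i)
  swap
  · exact Or.inl (Bool.eq_false_iff.2 fun e => hz ((I.zS_iff hi8).1 e))
  right
  obtain ⟨g', c, hg', h0, R⟩ := I.exists_rev (isInv_rep hi8) (by rw [tag_rep hi8]; omega) hz
  obtain ⟨k, hk⟩ := exists_conj_of_tag_eq hg' (isInv_rep (tag_lt hg')) (tag_rep (tag_lt hg')).symm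
  have R' := (R.symm.conj k).symm
  rw [hk] at R'
  have hzj : I.ZType (rep (tag g')) := R'.symm.zType
  have hj8 := tag_lt hg'
  have hj : tag g' ∈ [1, 2, 4, 6, 7] := by
    have h3 : tag g' ≠ 3 := fun e => I.not_zType_three (e ▸ hzj)
    have h5 : tag g' ≠ 5 := fun e => I.not_zType_five (e ▸ hzj)
    simp only [List.mem_cons, List.not_mem_nil, or_false]
    omega
  obtain ⟨-, hj'⟩ := hmem _ hj
  refine List.any_eq_true.2 ⟨tag g', hj, ?_⟩
  obtain ⟨e1, e2⟩ := R'.pairs_eq
  obtain ⟨a1, a2⟩ := pairs_rep I hi8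
  obtain ⟨b1, b2⟩ := pairs_rep I hj8
  rw [a1, b2, profileTable_eq hi', profileTable_eq hj'] at e1
  rw [a2, b1, profileTable_eq hi', profileTable_eq hj'] at e2
  have hc := R'.tag_cent (isInv_rep hi8) (isInv_rep hj8)
  rw [tag_rep hi8, tag_rep hj8] at hc
  simp only [Bool.and_eq_true, Nat.beq_eq]
  exact ⟨⟨⟨(I.zS_iff hj8).2 hzj, hc⟩, e1⟩, e2⟩

include I in
/-- The model carries a Sylow two subgroup of the group. -/
theorem factorization_two' [Finite G] : (Nat.card G).factorization 2 = 10 := by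
  haveI : Fact (Nat.Prime 2) := ⟨Nat.prime_two⟩
  obtain ⟨P⟩ : Nonempty (Sylow 2 Mdl) := inferInstance
  have hP : Nat.card (P : Subgroup Mdl) = 2 ^ 10 := by
    rw [Sylow.card_eq_multiplicity, card_mdl, show 21504 = 2 ^ 10 * 21 by norm_num,
      Nat.factorization_mul (by norm_num) (by norm_num), Finsupp.add_apply,
      Nat.prime_two.factorization_pow, Finsupp.single_eq_same, Nat.factorization_eq_zero_of_not_dvd (by norm_num)]
  set P' := (P : Subgroup Mdl).map I.ι with hP'
  have hP'card : Nat.card P' = 2 ^ 10 := by rw [hP', Subgroup.card_map_of_injective I.ι_inj, hP]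
  refine le_antisymm ?_ ?_
  · by_contra hgt
    push_neg at hgt
    obtain ⟨K, hK, hle⟩ := Sylow.exists_subgroup_card_pow_succ (p := 2) (n := 10)
      ((Nat.prime_two.pow_dvd_iff_le_factorization Nat.card_pos.ne').2 hgt) (H := P') hP'card
    haveI : (P'.subgroupOf K).Normal := by
      refine Subgroup.normal_of_index_eq_two ?_
      have := (P'.subgroupOf K).card_mul_index
      rw [Nat.card_congr (subgroupOfEquivOfLe hle).toEquiv, hP'card, hK] at this
      omega
    have hKC : ∀ k ∈ K, k * z = z * k := by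
      intro k hk
      have hzP : zc ∈ (P : Subgroup Mdl) := by
        have hw : IsPGroup 2 ↥(zpowers zc) := by
          refine IsPGroup.of_card (n := 1) ?_
          rw [Nat.card_zpowers, pow_one]
          exact orderOf_eq_prime (by rw [pow_two, zc_inv.1]) zc_inv.2
        haveI : (zpowers zc).Normal := ⟨fun m hm q => by
          obtain ⟨j, rfl⟩ := hm
          exact ⟨j, by
            show zc ^ j = q * zc ^ j * q⁻¹
            rw [((show Commute q zc from zc_comm q).zpow_right j).eq, mul_inv_cancel_right]⟩⟩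
        have hle := P.3 (hw.to_sup_of_normal_left P.2) le_sup_right
        exact hle.le (Subgroup.mem_sup_left (mem_zpowers zc))
      have hzP' : z ∈ P' := ⟨zc, hzP, I.ι_zc⟩
      obtain ⟨g, hg, hge⟩ : k * z * k⁻¹ ∈ P' :=
        ‹(P'.subgroupOf K).Normal›.conj_mem ⟨z, hle hzP'⟩ hzP' ⟨k, hk⟩
      have hgi : IsInv g := I.isInv_of_zType (isConj_iff.2 ⟨k, hge.symm⟩)
      have hcent : (P : Subgroup Mdl) ≤ centralizer ({g} : Set Mdl) := by
        intro q hq
        refine mem_centralizer_singleton_iff.2 (I.ι_comm_iff.1 ?_)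
        rw [hge]
        have hq' : k⁻¹ * I.ι q * k ∈ P' := by
          have := ‹(P'.subgroupOf K).Normal›.conj_mem ⟨I.ι q, hle ⟨q, hq, rfl⟩⟩ (⟨q, hq, rfl⟩ : I.ι q ∈ P')
            ⟨k, hk⟩⁻¹
          show k⁻¹ * I.ι q * k ∈ P'
          have h' : k⁻¹ * I.ι q * k⁻¹⁻¹ ∈ P' := this
          rwa [inv_inv] at h'
        obtain ⟨u, -, hu⟩ := hq'
        calc I.ι q * (k * z * k⁻¹) = k * (k⁻¹ * I.ι q * k * z) * k⁻¹ := by group
          _ = k * (z * (k⁻¹ * I.ι q * k)) * k⁻¹ := by rw [← hu, I.ι_comm u]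
          _ = _ := by group
      have hdvd := Subgroup.card_dvd_of_le hcent
      rw [hP, card_cent_eq hgi] at hdvd
      have h8 := tag_lt hgi
      have ht : tag g = 0 := by
        generalize tag g = i at hdvd h8
        interval_cases i <;> simp_all
      rw [eq_zc_of_tag hgi ht, ι_zc] at hge
      exact mul_inv_eq_iff_eq_mul.1 hge.symm
    have hKle : K ≤ I.ι.range := fun k hk => by
      obtain ⟨g, hg⟩ := I.exists_ι (hKC k hk)
      exact ⟨g, hg⟩
    have hdvd := Subgroup.card_dvd_of_le hKle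
    rw [hK, ← Nat.card_congr (MonoidHom.ofInjective I.ι_inj).toEquiv, card_mdl] at hdvd
    norm_num at hdvd
  · rw [← Nat.prime_two.pow_dvd_iff_le_factorization Nat.card_pos.ne', ← hP'card]
    exact card_subgroup_dvd_card P'

/-- Every involution moves into the centralizer of `z`. -/
theorem exists_conj_mdl [Finite G] {x : G} (hx : x * x = 1) (hx1 : x ≠ 1) :
    ∃ (d : G) (g : Mdl), IsInv g ∧ d * x * d⁻¹ = I.ι g := by
  haveI : Fact (Nat.Prime 2) := ⟨Nat.prime_two⟩
  obtain ⟨P, S', hS', -⟩ := I.exists_sylow I.factorization_two'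
  have hp : IsPGroup 2 ↥(zpowers x) := by
    refine IsPGroup.of_card (n := 1) ?_
    rw [Nat.card_zpowers, pow_one]
    exact orderOf_eq_prime (by rw [pow_two, hx]) hx1
  obtain ⟨T, hT⟩ := hp.exists_le_sylow
  obtain ⟨d, hd⟩ := MulAction.exists_smul_eq G T S'
  have hmem : d * x * d⁻¹ ∈ (P : Subgroup Mdl).map I.ι := by
    rw [← hS', ← hd, Sylow.coe_subgroup_smul]
    exact Subgroup.smul_mem_pointwise_smul x (MulAut.conj d) _ (hT (mem_zpowers x))
  obtain ⟨g, -, hg⟩ := hmem
  refine ⟨d, g, I.isInv_of ?_ ?_, hg.symm⟩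
  · rw [hg, show d * x * d⁻¹ * (d * x * d⁻¹) = d * (x * x) * d⁻¹ by group, hx]; group
  · rw [hg]; exact fun e => hx1 (conj_eq_one_iff.1 e)

end Iso

end Cfsg.Agent.HeLocal
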